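import Cfsg.Agent.BlocksB.McKayPrime
import Cfsg.Agent.BlocksB.PrincipalNorm
import Cfsg.Agent.Char.DegreesPrime
import Cfsg.Agent.Blocks.PrincipalCoeff

/-!
# The regular parts of the principal block for a Sylow subgroup of order at most `p ^ 2`

A basis of the regular parts with integral coordinates for all members, and its Gram matrix.
-/

set_option autoImplicit false
set_option linter.style.haveILetI false
set_option linter.unusedSectionVars false

namespace CfsgLib.SmallCentralizer

open Cfsg Finset CfsgLib.Block CfsgLib.Block.Chr CfsgLib.Char CfsgLib.Cyclic CfsgLib.PrincipalNorm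
open scoped ComplexConjugate
open scoped Classical

universe u

variable {M : Ideal AlgInt} [M.IsPrime] {p : ℕ} [Fact p.Prime] [CharP (Residue M) p]

/-- An integral basis of the regular parts of the principal block of `H` with its Gram matrix. -/
def HasBasis (M : Ideal AlgInt) (p D : ℕ) (H : Type u) [Group H] [Fintype H] : Prop :=
  ∃ (ι : Type u) (_ : Fintype ι) (_ : Nonempty ι) (m : ℕ) (f : ι → H → ℂ),
    (1 ≤ m ∨ Fintype.card ι = 1) ∧
    (∀ i, ∃ ψ ∈ principalBlock M H, ∃ c : ℂ, f i = c • regPart p (ψ : H → ℂ)) ∧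
    (∀ ψ ∈ principalBlock M H, ∃ c : ι → ℤ, regPart p (ψ : H → ℂ) = ∑ i, (c i : ℂ) • f i) ∧
    ∀ i j, (D : ℂ) * classInner (f i) (f j) =
      (if i = j then ((Fintype.card ι : ℂ) * m + 1) else 0) - m

theorem classInner_regPart_right {K : Type u} [Group K] [Fintype K] (χ ψ : K → ℂ) :
    classInner (regPart p χ) ψ = classInner (regPart p χ) (regPart p ψ) := by
  rw [classInner_def, classInner_def]
  congr 1
  refine sum_congr rfl fun g _ => ?_
  by_cases hg : p ∣ orderOf g
  · rw [regPart_of_dvd hg, zero_mul, zero_mul]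
  · rw [regPart_of_not_dvd hg, regPart_of_not_dvd hg]

/-- The basis when `p` divides the order once. -/
theorem hasBasis_prime {K : Type u} [Group K] [Fintype K] (hM : IsPModular p M)
    (hN : (Nat.card K).factorization p = 1) : HasBasis M p p K := by
  have hp : p.Prime := Fact.out
  letI := irrFintype (G := K)
  have hB : IsPBlock M (principalBlock M K) := isPBlock_principalBlock
  have hd : blockDefect p (principalBlock M K) = 1 :=
    McKayPrime.defect_one hN oneIrr_mem_principalBlock (by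
      rw [show charDegree (oneIrr K : K → ℂ) = 1 by simp [charDegree]]; exact hp.not_dvd_one)
  obtain ⟨P, cc, t, n, hP, S⟩ := PConj.exists_setup hM hB (by omega) hN
  haveI := Fintype.ofFinite P
  haveI : Fintype (principalBlock M K) := Fintype.ofFinite _
  obtain ⟨mu, V⟩ := S.exists_cycVals
  obtain ⟨hrank, X, δ, δ₀, rep, T, -⟩ := exists_tree S V ⟨oneIrr K, oneIrr_mem_principalBlock⟩
  have hY := T.card_Y
  rw [hP] at hY
  set m := (Xᶜ).card
  haveI : Nonempty X := (card_pos.1 (T.card_X ▸ S.n_pos : 0 < X.card)).to_subtype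
  set f : X → K → ℂ := fun a => (δ a.1 : ℂ) • regPart p ((a.1 : IrrCharacter K) : K → ℂ)
  have hδ : ∀ a : X, (δ a.1 : ℂ) * δ a.1 = 1 := fun a => by
    rcases T.sign a.1 a.2 with e | e <;> simp [e]
  have hδ₀ : (δ₀ : ℂ) * δ₀ = 1 := by rcases T.sign₀ with e | e <;> simp [e]
  have hout : ∀ y, y ∉ X → regPart p ((y : IrrCharacter K) : K → ℂ) =
      -(δ₀ : ℂ) • ∑ a : X, f a := by
    intro y hy
    funext g
    simp only [f, Pi.smul_apply, Finset.sum_apply, smul_eq_mul]
    by_cases hg : p ∣ orderOf g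
    · simp [regPart_of_dvd hg]
    · simp only [regPart_of_not_dvd hg]
      rw [sum_coe_sort X fun a : principalBlock M K => (δ a : ℂ) * ((a : IrrCharacter K) : K → ℂ) g]
      linear_combination (δ₀ : ℂ) * T.reg y hy g hg - ((y : IrrCharacter K) : K → ℂ) g * hδ₀
  have hcomb : ∀ ψ ∈ principalBlock M K,
      ∃ c : X → ℤ, regPart p (ψ : K → ℂ) = ∑ a, (c a : ℂ) • f a := by
    intro ψ hψ
    by_cases hX : (⟨ψ, hψ⟩ : principalBlock M K) ∈ X
    · refine ⟨fun a => if a = ⟨_, hX⟩ then δ ⟨ψ, hψ⟩ else 0, ?_⟩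
      rw [sum_eq_single (⟨_, hX⟩ : X) (fun a _ h => by simp [h]) (fun h => absurd (mem_univ _) h)]
      simp only [if_true, f, smul_smul]
      rw [hδ ⟨_, hX⟩, one_smul]
    · refine ⟨fun _ => -δ₀, ?_⟩
      rw [hout _ hX, smul_sum]
      exact sum_congr rfl fun a _ => by simp
  have hli : LinearIndependent ℂ f := by
    refine linearIndependent_iff_card_le_finrank_span.2 ?_
    rw [Fintype.card_coe, T.card_X]
    refine hrank.symm.le.trans (Submodule.finrank_mono (Submodule.span_le.2 ?_))
    rintro _ ⟨ψ, hψ, rfl⟩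
    obtain ⟨c, hc⟩ := hcomb ψ hψ
    show pRegularPart p (ψ : K → ℂ) ∈ _
    rw [show pRegularPart p (ψ : K → ℂ) = regPart p (ψ : K → ℂ) from funext fun g => by
      by_cases hg : p ∣ orderOf g <;> simp [pRegularPart, IsPRegular, regPart, hg], hc]
    exact Submodule.sum_mem _ fun i _ => Submodule.smul_mem _ _ (Submodule.subset_span ⟨i, rfl⟩)
  refine ⟨X, inferInstance, inferInstance, m, f, Or.inl ?_, fun a => ⟨_, a.1.2, _, rfl⟩, hcomb, ?_⟩
  · rcases Nat.eq_zero_or_pos m with h | h
    · rw [h, mul_zero, zero_add] at hY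
      exact absurd hY.symm hp.ne_one
    · exact h
  intro a b
  set Gm : X → X → ℂ := fun i j => classInner (f i) (f j)
  -- the regular part of a member is its own projection
  have hrow : ∀ i : X, f i = ∑ j : X, (Gm i j + m * ∑ l, Gm i l) • f j := by
    intro i
    funext g
    have h1 : regPart p ((i.1 : IrrCharacter K) : K → ℂ) g = ∑ z : principalBlock M K,
        classInner (regPart p ((i.1 : IrrCharacter K) : K → ℂ)) ((z : IrrCharacter K) : K → ℂ) *
          regPart p ((z : IrrCharacter K) : K → ℂ) g := by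
      by_cases hg : p ∣ orderOf g
      · simp [regPart_of_dvd hg]
      have h0 : blockPart (principalBlock M K) (regPart p ((i.1 : IrrCharacter K) : K → ℂ)) g =
          regPart p ((i.1 : IrrCharacter K) : K → ℂ) g := by
        rw [blockPart_regPart hM hB, blockPart_irr, if_pos i.1.2]
      rw [← h0, blockPart_eq_sum_inner, sum_subtype (univ.filter (· ∈ principalBlock M K))
        (p := (· ∈ principalBlock M K)) (by simp) (fun z : IrrCharacter K =>
          classInner (regPart p ((i.1 : IrrCharacter K) : K → ℂ)) (z : K → ℂ) * (z : K → ℂ) g)]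
      exact sum_congr rfl fun z _ => by rw [regPart_of_not_dvd (f := (z.1 : K → ℂ)) hg]
    have hXs : ∀ j : X, (δ i.1 : ℂ) * (classInner (regPart p ((i.1 : IrrCharacter K) : K → ℂ))
        ((j.1 : IrrCharacter K) : K → ℂ) * regPart p ((j.1 : IrrCharacter K) : K → ℂ) g) =
          Gm i j * f j g := by
      intro j
      simp only [Gm, f, Pi.smul_apply, smul_eq_mul, classInner_smul_left]
      rw [classInner_regPart_right, classInner_smul_right, map_intCast]
      linear_combination -((δ i.1 : ℂ) * classInner (regPart p ((i.1 : IrrCharacter K) : K → ℂ))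
        (regPart p ((j.1 : IrrCharacter K) : K → ℂ)) *
          regPart p ((j.1 : IrrCharacter K) : K → ℂ) g) * hδ j
    have hYs : ∀ y, y ∉ X → (δ i.1 : ℂ) * (classInner (regPart p ((i.1 : IrrCharacter K) : K → ℂ))
        ((y : IrrCharacter K) : K → ℂ) * regPart p ((y : IrrCharacter K) : K → ℂ) g) =
          (∑ l, Gm i l) * ∑ j : X, f j g := by
      intro y hy
      have hT : ∑ l, Gm i l = (δ i.1 : ℂ) * classInner (regPart p ((i.1 : IrrCharacter K) : K → ℂ))
          (∑ l : X, f l) := by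
        simp only [Gm]
        rw [show f i = (δ i.1 : ℂ) • regPart p ((i.1 : IrrCharacter K) : K → ℂ) from rfl,
          classInner_sum_right, mul_sum]
        simp only [classInner_smul_left]
      rw [classInner_regPart_right, hout y hy, classInner_smul_right, hT, Pi.smul_apply,
        Finset.sum_apply, map_neg, map_intCast, smul_eq_mul]
      linear_combination (δ i.1 : ℂ) * classInner (regPart p ((i.1 : IrrCharacter K) : K → ℂ))
        (∑ l : X, f l) * (∑ j : X, f j g) * hδ₀
    rw [show f i g = (δ i.1 : ℂ) * regPart p ((i.1 : IrrCharacter K) : K → ℂ) g from rfl, h1,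
      mul_sum, ← sum_add_sum_compl X, ← sum_coe_sort X, sum_congr rfl fun j _ => hXs j,
      sum_congr rfl fun y hy => hYs y (mem_compl.1 hy), sum_const, nsmul_eq_mul]
    simp only [Finset.sum_apply, Pi.smul_apply, smul_eq_mul, add_mul, sum_add_distrib, mul_assoc,
      ← mul_sum]
    rfl
  have hcoef : ∀ i j, Gm i j + m * ∑ l, Gm i l = if i = j then 1 else 0 := by
    intro i
    have h0 : ∑ j : X, ((Gm i j + m * ∑ l, Gm i l) - if i = j then 1 else 0) • f j = 0 := by
      simp only [sub_smul, sum_sub_distrib, ite_smul, one_smul, zero_smul, sum_ite_eq, mem_univ,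
        if_true, ← hrow i, sub_self]
    exact fun j => sub_eq_zero.1 (Fintype.linearIndependent_iff.1 hli _ h0 j)
  have hsum : ∀ i, (p : ℂ) * ∑ l, Gm i l = 1 := by
    intro i
    have h := congrArg (fun w : X → ℂ => ∑ j, w j) (funext fun j => hcoef i j)
    simp only [sum_add_distrib, sum_const, card_univ, sum_ite_eq, mem_univ, if_true,
      nsmul_eq_mul, Fintype.card_coe, T.card_X] at h
    rw [← hY]
    push_cast
    linear_combination h
  have hpe : (Fintype.card X : ℂ) * m + 1 = (p : ℂ) := by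
    rw [Fintype.card_coe, T.card_X]
    exact_mod_cast hY
  rw [hpe]
  have h1 := hcoef a b
  have h2 := hsum a
  split_ifs with hab
  · rw [if_pos hab] at h1
    linear_combination (p : ℂ) * h1 - (m : ℂ) * h2
  · rw [if_neg hab] at h1
    linear_combination (p : ℂ) * h1 - (m : ℂ) * h2

section lift

variable {H : Type u} [Group H] [Fintype H] {K : Subgroup H} [K.Normal] [Fintype K]

/-- A sum over a group of a function supported by a subgroup. -/
theorem classInner_extend (φ φ' : H → ℂ) (h : ∀ g, g ∉ K → φ g = 0) :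
    (Nat.card H : ℂ) * classInner φ φ' =
      (Nat.card K : ℂ) * classInner (fun k : K => φ k) (fun k : K => φ' k) := by
  rw [classInner_def, classInner_def, mul_inv_cancel_left₀ (Nat.cast_ne_zero.2 Nat.card_pos.ne'),
    mul_inv_cancel_left₀ (Nat.cast_ne_zero.2 Nat.card_pos.ne'),
    sum_eq_sum_subgroup K _ fun g hg => by rw [h g hg, zero_mul]]

/-- Constituents of the restrictions along a central supplement. -/
theorem restrict_central (hM : IsPModular p M) {z : H} (hz : z ∈ Subgroup.center H)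
    (htop : K ⊔ Subgroup.zpowers z = ⊤) (hreg : ∀ h : H, ¬ p ∣ orderOf h → h ∈ K)
    {ψ : IrrCharacter H} {θ : IrrCharacter K}
    (hne : classInner (fun k : K => (ψ : H → ℂ) k) (θ : K → ℂ) ≠ 0) :
    ∃ e : ℕ, 0 < e ∧ (∀ k : K, (ψ : H → ℂ) k = (e : ℂ) * (θ : K → ℂ) k) ∧
      (ψ ∈ principalBlock M H ↔ θ ∈ principalBlock M K) := by
  obtain ⟨e, he⟩ := IsCharacter.exists_classInner_eq_natCast
    (IsCharacter.restrict (isCharacter_irr ψ) K) θ.2
  have hinv : ∀ g : H, conjOn g (θ : K → ℂ) = (θ : K → ℂ) := by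
    intro g
    have hg : g ∈ K ⊔ Subgroup.zpowers z := htop ▸ Subgroup.mem_top g
    obtain ⟨a, ha, b, hb, rfl⟩ := Subgroup.mem_sup_of_normal_left.1 hg
    have hbc : b ∈ Subgroup.center H := Subgroup.zpowers_le.2 hz hb
    funext n
    rw [conjOn_apply]
    refine (congrArg (θ : K → ℂ) (show (⟨_, _⟩ : K) = ⟨a, ha⟩ * n * ⟨a, ha⟩⁻¹ from
      Subtype.ext ?_)).trans (isClassFunction_irr θ n ⟨a, ha⟩)
    show a * b * (n : H) * (a * b)⁻¹ = a * n * a⁻¹
    rw [mul_assoc a b, ← Subgroup.mem_center_iff.1 hbc (n : H), mul_inv_rev]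
    group
  have horb : conjOrbit (G := H) (θ : K → ℂ) = {(θ : K → ℂ)} := by
    ext φ
    rw [mem_conjOrbit, mem_singleton]
    exact ⟨fun ⟨g, hg⟩ => hg.trans (hinv g), fun h => ⟨1, h.trans (hinv 1).symm⟩⟩
  have hres := restrict_eq_smul_sum ψ.2 θ.2 hne
  rw [horb, sum_singleton, he] at hres
  have he0 : 0 < e := Nat.pos_of_ne_zero fun h => hne (by rw [he, h, Nat.cast_zero])
  have hk : ∀ k : K, (ψ : H → ℂ) k = (e : ℂ) * (θ : K → ℂ) k := fun k => congrFun hres k
  refine ⟨e, he0, hk, ?_⟩
  rw [mem_principal_iff hM, mem_principal_iff hM]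
  have hs : regSum p (ψ : H → ℂ) = (e : ℂ) * regSum p (θ : K → ℂ) := by
    rw [regSum, regSum, sum_filter, sum_filter, mul_sum, sum_eq_sum_subgroup K _ fun g hg =>
      if_neg fun h => hg (hreg g h)]
    refine sum_congr rfl fun k _ => ?_
    rw [Subgroup.orderOf_coe, hk]
    split_ifs <;> simp
  rw [hs, mul_ne_zero_iff]
  exact ⟨fun h => h.2, fun h => ⟨Nat.cast_ne_zero.2 he0.ne', h⟩⟩

/-- The basis passes through a central supplement of order `p`. -/
theorem hasBasis_lift (hM : IsPModular p M) {z : H} (hz : z ∈ Subgroup.center H)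
    (htop : K ⊔ Subgroup.zpowers z = ⊤) (hreg : ∀ h : H, ¬ p ∣ orderOf h → h ∈ K)
    {D : ℕ} (hK : HasBasis M p D K) : HasBasis M p (K.index * D) H := by
  obtain ⟨ι, i1, i2, m, f, hm, hf, hc, hgram⟩ := hK
  have hKs : ∀ (i : ι) (k : K), p ∣ orderOf k → f i k = 0 := fun i k hk => by
    obtain ⟨θ, -, c, h⟩ := hf i
    rw [h, Pi.smul_apply, regPart_of_dvd hk, smul_zero]
  set F : ι → H → ℂ := fun i h => if hh : h ∈ K then f i ⟨h, hh⟩ else 0
  have hFK : ∀ (i : ι) (k : K), F i k = f i k := fun i k => dif_pos k.2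
  refine ⟨ι, i1, i2, m, F, hm, fun i => ?_, fun ψ hψ => ?_, fun i j => ?_⟩
  · obtain ⟨θ, hθ, c, h⟩ := hf i
    obtain ⟨φ, hφ, hover⟩ := DegreesPrime.exists_over K θ.2
    obtain ⟨e, he, hk, hiff⟩ := restrict_central hM hz htop hreg (ψ := ⟨φ, hφ⟩) hover
    refine ⟨⟨φ, hφ⟩, hiff.2 hθ, c / (e : ℂ), funext fun g => ?_⟩
    rw [Pi.smul_apply, smul_eq_mul]
    by_cases hg : g ∈ K
    · rw [show F i g = f i ⟨g, hg⟩ from dif_pos hg, h, Pi.smul_apply, smul_eq_mul]
      by_cases hd : p ∣ orderOf g
      · rw [regPart_of_dvd hd, regPart_of_dvd (by rwa [← Subgroup.orderOf_coe]), mul_zero,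
          mul_zero]
      · rw [regPart_of_not_dvd hd, regPart_of_not_dvd (by rwa [← Subgroup.orderOf_coe]),
          show ((⟨φ, hφ⟩ : IrrCharacter H) : H → ℂ) g = _ from hk ⟨g, hg⟩]
        have he0 : (e : ℂ) ≠ 0 := Nat.cast_ne_zero.2 he.ne'
        field_simp
    · have hd : p ∣ orderOf g := by_contra fun h' => hg (hreg g h')
      rw [show F i g = 0 from dif_neg hg, regPart_of_dvd hd, mul_zero]
  · obtain ⟨θ, hθ, hne⟩ := exists_constituent_restrict (N := K) ψ.2
    obtain ⟨e, he, hk, hiff⟩ := restrict_central hM hz htop hreg (θ := ⟨θ, hθ⟩) hne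
    obtain ⟨c, hc'⟩ := hc ⟨θ, hθ⟩ (hiff.1 hψ)
    refine ⟨fun i => (e : ℤ) * c i, funext fun g => ?_⟩
    simp only [Finset.sum_apply, Pi.smul_apply, smul_eq_mul, Int.cast_mul, Int.cast_natCast,
      mul_assoc, ← mul_sum]
    by_cases hg : g ∈ K
    · have h1 := congrFun hc' ⟨g, hg⟩
      simp only [Finset.sum_apply, Pi.smul_apply, smul_eq_mul] at h1
      simp only [show ∀ i, F i g = f i ⟨g, hg⟩ from fun i => dif_pos hg]
      rw [← h1]
      by_cases hd : p ∣ orderOf g
      · rw [regPart_of_dvd hd, regPart_of_dvd (by rwa [← Subgroup.orderOf_coe]), mul_zero]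
      · rw [regPart_of_not_dvd hd, regPart_of_not_dvd (by rwa [← Subgroup.orderOf_coe])]
        exact hk ⟨g, hg⟩
    · have hd : p ∣ orderOf g := by_contra fun h' => hg (hreg g h')
      rw [regPart_of_dvd hd]
      simp [show ∀ i, F i g = 0 from fun i => dif_neg hg]
  · rw [← hgram i j]
    have h := classInner_extend (K := K) (F i) (F j) fun g hg => dif_neg hg
    simp only [hFK] at h
    rw [← K.index_mul_card, Nat.cast_mul] at h
    have hKne : (Nat.card K : ℂ) ≠ 0 := Nat.cast_ne_zero.2 Nat.card_pos.ne'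
    rw [Nat.cast_mul]
    refine mul_left_cancel₀ hKne ?_
    linear_combination (D : ℂ) * h

/-- The basis for a group with a normal `p`-complement. -/
theorem hasBasis_complement (hM : IsPModular p M) {N : Subgroup H} [N.Normal]
    (hN : ¬ p ∣ Nat.card N) (hidx : ∃ k : ℕ, N.index = p ^ k) : HasBasis M p N.index H := by
  haveI := Fintype.ofFinite N
  have hreg : ∀ g : H, g ∈ N ↔ ¬ p ∣ orderOf g := by
    intro g
    refine ⟨fun hg hd => hN (hd.trans ((Subgroup.orderOf_coe (⟨g, hg⟩ : N)) ▸
      orderOf_dvd_natCard _)), fun hd => ?_⟩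
    obtain ⟨k, hk⟩ := hidx
    rw [← QuotientGroup.eq_one_iff]
    have h2 : orderOf (g : H ⧸ N) ∣ p ^ k := hk ▸ orderOf_dvd_natCard _
    exact orderOf_eq_one_iff.1 (Nat.eq_one_of_dvd_coprimes
      (Nat.Coprime.pow_right k (Nat.Coprime.symm ((Fact.out : p.Prime).coprime_iff_not_dvd.2 hd)))
      (orderOf_map_dvd (QuotientGroup.mk' N) g) h2)
  refine ⟨PUnit, inferInstance, inferInstance, 0, fun _ => regPart p (oneIrr H : H → ℂ),
    Or.inr (Fintype.card_punit), fun _ => ⟨_, oneIrr_mem_principalBlock, 1, (one_smul _ _).symm⟩,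
    fun ψ hψ => ⟨fun _ => (charDegree (ψ : H → ℂ) : ℤ), ?_⟩, fun i j => ?_⟩
  · rw [principalBlock_of_complement hM N hN hidx] at hψ
    funext g
    simp only [univ_unique, sum_singleton, Pi.smul_apply, smul_eq_mul, Int.cast_natCast]
    by_cases hg : p ∣ orderOf g
    · simp [regPart_of_dvd hg]
    · rw [regPart_of_not_dvd hg, regPart_of_not_dvd hg, oneIrr_apply, mul_one,
        hψ g ((hreg g).2 hg), (irr_one ψ).1]
  · rw [Subsingleton.elim i j, if_pos rfl]
    simp only [Fintype.card_punit, Nat.cast_one, Nat.cast_zero, mul_zero, zero_add, sub_zero]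
    have h := classInner_extend (K := N) (regPart p (oneIrr H : H → ℂ))
      (regPart p (oneIrr H : H → ℂ)) fun g hg => regPart_of_dvd (not_not.1 (mt (hreg g).2 hg))
    have h1 : classInner (fun k : N => regPart p (oneIrr H : H → ℂ) k)
        (fun k : N => regPart p (oneIrr H : H → ℂ) k) = 1 := by
      rw [classInner_def, sum_congr rfl fun (k : N) _ => by
        rw [regPart_of_not_dvd ((hreg k).1 k.2), oneIrr_apply, map_one, mul_one],
        sum_const, card_univ, nsmul_eq_mul, mul_one, ← Nat.card_eq_fintype_card,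
        inv_mul_cancel₀ (Nat.cast_ne_zero.2 Nat.card_pos.ne')]
    rw [h1, mul_one, ← N.index_mul_card, Nat.cast_mul] at h
    exact mul_right_cancel₀ (b := (Nat.card N : ℂ)) (Nat.cast_ne_zero.2 Nat.card_pos.ne')
      (by linear_combination h)

end lift

end CfsgLib.SmallCentralizer
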