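import Cfsg.Agent.BlocksB.GaloisBound
import Cfsg.Agent.BlocksB.PrincipalColumns
import Cfsg.Agent.Blocks.BlockSize
import Cfsg.Agent.Blocks.Congr

/-!
# Counting characters of degree prime to `p` by the column at a `p`-element

A character of degree prime to `p` in the principal block does not vanish at `x`. Its part at the
section of `x` has algebraic integers as coordinates in a basis of the principal block of the
centralizer; the average square of a nonzero algebraic integer is at least one.
-/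

set_option autoImplicit false
set_option linter.style.haveILetI false
set_option linter.unusedSectionVars false

namespace CfsgLib.SmallCentralizer

open Cfsg Finset CfsgLib.Block CfsgLib.Block.Chr CfsgLib.Char CfsgLib.BlockB
open scoped ComplexConjugate
open scoped Classical

universe u

/-- The number of nonzero terms of the quadratic form at a nonzero vector. -/
theorem le_card_nonzero {ι : Type*} [Fintype ι] {a : ι → ℂ} (h : ∃ i, a i ≠ 0) {m : ℕ}
    (hm : 1 ≤ m ∨ Fintype.card ι = 1) :
    2 * Fintype.card ι ≤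
      (univ.filter fun z : (Fin 2 × ι) ⊕ (Fin m × ι × ι) =>
        Sum.elim (fun u => a u.2) (fun u => a u.2.1 - a u.2.2) z ≠ 0).card := by
  obtain ⟨i₀, hi₀⟩ := h
  rcases hm with hm | hm
  · let g : Fin 2 × ι → (Fin 2 × ι) ⊕ (Fin m × ι × ι) := fun u =>
      if a u.2 ≠ 0 then Sum.inl u
      else if u.1 = 0 then Sum.inr (⟨0, hm⟩, u.2, i₀) else Sum.inr (⟨0, hm⟩, i₀, u.2)
    refine le_trans (le_of_eq (show 2 * Fintype.card ι = (univ : Finset (Fin 2 × ι)).card by simp))
      (card_le_card_of_injOn g (fun u _ => ?_) ?_)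
    · refine mem_coe.2 (mem_filter.2 ⟨mem_univ _, ?_⟩)
      simp only [g]
      split_ifs with h1 h2
      · exact h1
      · simp only [Sum.elim_inr, not_not.1 h1, zero_sub, ne_eq, neg_eq_zero]; exact hi₀
      · simp only [Sum.elim_inr, not_not.1 h1, sub_zero]; exact hi₀
    · rintro ⟨u, i⟩ - ⟨v, j⟩ - huv
      simp only [g] at huv
      fin_cases u <;> fin_cases v <;> split_ifs at huv <;> simp_all
  · refine le_trans ?_ (card_le_card (s := univ.map
      ⟨fun u : Fin 2 => Sum.inl (u, i₀), fun u v h => by simpa using h⟩) fun z hz => ?_)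
    · rw [hm, mul_one, card_map, card_univ, Fintype.card_fin]
    · obtain ⟨u, -, rfl⟩ := mem_map.1 hz
      exact mem_filter.2 ⟨mem_univ _, hi₀⟩

variable {G : Type u} [Group G] [Fintype G] {M : Ideal AlgInt} [M.IsPrime] {p : ℕ} [Fact p.Prime]

/-- The values of a character are in the cyclotomic field of the order of the group. -/
theorem mem_cycloField (χ : IrrCharacter G) (g : G) :
    (χ : G → ℂ) g ∈ cycloField (Nat.card G) := by
  obtain ⟨s, -, hs, hk⟩ := IsCharacter.exists_roots (isCharacter_irr χ) g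
  have h := hk 1
  rw [pow_one] at h
  rw [h]
  refine multiset_sum_mem _ fun z hz => ?_
  obtain ⟨w, hw, rfl⟩ := Multiset.mem_map.1 hz
  rw [pow_one]
  refine root_mem_cycloField ?_
  exact orderOf_dvd_iff_pow_eq_one.1 ((orderOf_dvd_of_pow_eq_one (hs w hw)).trans
    (orderOf_dvd_natCard g))

variable {x : G}

local notation "H[" x "]" => Subgroup.centralizer ({x} : Set G)

/-- **The count of the characters of degree prime to `p`.** -/
theorem count_le (hM : IsPModular p M) {k : ℕ} (hx : orderOf x = p ^ k) [Fintype H[x]]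
    {ι : Type*} [Fintype ι] [Nonempty ι] (m D : ℕ) (hD0 : 0 < D) (hD : D ≤ p ^ 2)
    (hm : 1 ≤ m ∨ Fintype.card ι = 1) (f : ι → H[x] → ℂ)
    (hf : ∀ i, ∃ ψ ∈ principalBlock M H[x], ∃ c : ℂ,
      f i = c • regPart p (ψ : H[x] → ℂ))
    (hc : ∀ ψ ∈ principalBlock M H[x], ∃ c : ι → ℤ,
      regPart p (ψ : H[x] → ℂ) = ∑ i, (c i : ℂ) • f i)
    (gram : ∀ i j, (D : ℂ) * classInner (f i) (f j) =
      (if i = j then ((Fintype.card ι : ℂ) * m + 1) else 0) - m) :
    Nat.card {χ : IrrCharacter G //
      χ ∈ principalBlock M G ∧ ¬ p ∣ charDegree (χ : G → ℂ)} ≤ p ^ 2 := by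
  have hp : p.Prime := Fact.out
  letI := irrFintype (G := G)
  letI := irrFintype (G := H[x])
  set e := Fintype.card ι
  have he : 0 < e := Fintype.card_pos
  have hb : IsPBlock M (principalBlock M H[x]) := isPBlock_principalBlock
  have hind := isInduced_principal (M := M) hM hx
  -- the form
  have form : ∀ a : ι → ℂ, (D : ℂ) * classInner (∑ i, a i • f i) (∑ i, a i • f i) * 2 =
      2 * ∑ i, a i * conj (a i) + m * ∑ i, ∑ j, (a i - a j) * conj (a i - a j) := by
    intro a
    have h1 : ∑ i, ∑ j, a i * conj (a j) * ((D : ℂ) * classInner (f i) (f j)) =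
        (D : ℂ) * classInner (∑ i, a i • f i) (∑ i, a i • f i) := by
      rw [classInner_sum_left, mul_sum]
      refine sum_congr rfl fun i _ => ?_
      rw [classInner_smul_left, ← classInner_conj (∑ i, a i • f i) (f i), classInner_sum_left, map_sum,
        mul_sum, mul_sum]
      refine sum_congr rfl fun j _ => ?_
      rw [classInner_smul_left, map_mul, classInner_conj]
      ring
    rw [← h1]
    simp only [gram, mul_sub, sub_mul, map_sub, mul_ite, mul_zero, sum_sub_distrib, sum_ite_eq,
      mem_univ, if_true, ← sum_mul, ← mul_sum, sum_add_distrib, mul_add, mul_one, sum_const,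
      card_univ, nsmul_eq_mul, ← map_sum]
    simp only [e, mul_assoc, ← mul_sum]
    ring
  have hli : LinearIndependent ℂ f := by
    refine Fintype.linearIndependent_iff.2 fun a ha i => ?_
    have h1 := form a
    rw [ha] at h1
    have h2 : classInner (0 : H[x] → ℂ) (0 : H[x] → ℂ) = 0 := by simp [classInner]
    rw [h2, mul_zero, zero_mul] at h1
    have h3 : (0 : ℝ) = 2 * ∑ j, Complex.normSq (a j) +
        m * ∑ j, ∑ l, Complex.normSq (a j - a l) := by
      simp only [Complex.mul_conj, ← Complex.ofReal_sum] at h1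
      exact_mod_cast h1
    by_contra hne
    have h4 : 0 < ∑ j, Complex.normSq (a j) :=
      sum_pos' (fun j _ => Complex.normSq_nonneg _) ⟨i, mem_univ _, Complex.normSq_pos.2 hne⟩
    have h5 : 0 ≤ ∑ j, ∑ l, Complex.normSq (a j - a l) :=
      sum_nonneg fun j _ => sum_nonneg fun l _ => Complex.normSq_nonneg _
    nlinarith [Nat.cast_nonneg (α := ℝ) m]
  have hrank : blockRank p (principalBlock M H[x]) = e := by
    rw [blockRank, show Submodule.span ℂ
      ((fun χ : IrrCharacter H[x] => pRegularPart p (χ : H[x] → ℂ)) '' (principalBlock M H[x])) =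
        Submodule.span ℂ (Set.range f) from ?_, finrank_span_eq_card hli]
    have hpr : ∀ ψ : IrrCharacter H[x], pRegularPart p (ψ : H[x] → ℂ) = regPart p (ψ : H[x] → ℂ) :=
      fun ψ => funext fun g => by
        by_cases hg : p ∣ orderOf g <;> simp [pRegularPart, IsPRegular, regPart, hg]
    refine le_antisymm (Submodule.span_le.2 ?_) (Submodule.span_le.2 ?_)
    · rintro _ ⟨ψ, hψ, rfl⟩
      obtain ⟨c, hc'⟩ := hc ψ hψ
      show pRegularPart p (ψ : H[x] → ℂ) ∈ _
      rw [hpr, hc']
      exact Submodule.sum_mem _ fun i _ =>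
        Submodule.smul_mem _ _ (Submodule.subset_span ⟨i, rfl⟩)
    · rintro _ ⟨i, rfl⟩
      obtain ⟨ψ, hψ, c, hfi⟩ := hf i
      rw [hfi]
      exact Submodule.smul_mem _ _ (Submodule.subset_span ⟨ψ, hψ, hpr ψ⟩)
  -- the coordinates
  choose c hc using fun ψ : (principalBlock M H[x]) => hc ψ.1 ψ.2
  haveI : Fintype (principalBlock M H[x]) := Fintype.ofFinite (principalBlock M H[x])
  set a : IrrCharacter G → ι → ℂ := fun χ i =>
    ∑ ψ : (principalBlock M H[x]), classInner (secFun H[x] x χ) (ψ.1 : H[x] → ℂ) * (c ψ i : ℂ)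
  have hsub : ∀ χ, subPart p (principalBlock M H[x]) x χ = ∑ i, a χ i • f i := by
    intro χ
    funext s
    have hs : subPart p (principalBlock M H[x]) x χ s =
        ∑ ψ : (principalBlock M H[x]), classInner (secFun H[x] x χ) (ψ.1 : H[x] → ℂ) * regPart p (ψ.1 : H[x] → ℂ) s := by
      rw [subPart_eq_regPart hM hb]
      by_cases hd : p ∣ orderOf s
      · rw [regPart_of_dvd hd]
        exact (sum_eq_zero fun ψ _ => by rw [regPart_of_dvd hd, mul_zero]).symm
      · rw [regPart_of_not_dvd hd, blockPart_eq_sum_inner,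
          sum_subtype (univ.filter (· ∈ (principalBlock M H[x]))) (p := (· ∈ (principalBlock M H[x]))) (by simp)
          (fun ψ : IrrCharacter H[x] => classInner (secFun H[x] x χ) (ψ : H[x] → ℂ) * (ψ : H[x] → ℂ) s)]
        exact sum_congr rfl fun ψ _ => by rw [regPart_of_not_dvd hd]
    rw [hs]
    simp only [hc, Finset.sum_apply, Pi.smul_apply, smul_eq_mul, a, sum_mul, mul_sum]
    rw [sum_comm]
    exact sum_congr rfl fun i _ => sum_congr rfl fun ψ _ => by ring
  have hcoord : ∀ (χ : IrrCharacter G) (ψ : IrrCharacter H[x]),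
      classInner (secFun H[x] x χ) (ψ : H[x] → ℂ) ∈ cycloField (Nat.card G) ∧
      IsIntegral ℤ (classInner (secFun H[x] x χ) (ψ : H[x] → ℂ)) := by
    intro χ ψ
    set z : H[x] := ⟨x, Subgroup.mem_centralizer_singleton_iff.2 rfl⟩
    have hz : z⁻¹ ∈ Subgroup.center H[x] := inv_mem (Subgroup.mem_center_iff.2 fun w =>
      Subtype.ext (Subgroup.mem_centralizer_singleton_iff.1 w.2))
    obtain ⟨n, hn⟩ := IsCharacter.exists_classInner_eq_natCast
      (IsCharacter.restrict (isCharacter_irr χ) H[x]) ψ.2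
    have h : classInner (secFun H[x] x χ) (ψ : H[x] → ℂ) =
        (n : ℂ) * conj (centralChar (ψ : H[x] → ℂ) z⁻¹) := by
      rw [← hn, classInner_def, classInner_def, mul_assoc]
      congr 1
      rw [sum_mul, ← Equiv.sum_comp (Equiv.mulLeft z) (fun w : H[x] =>
        (χ : G → ℂ) w * conj ((ψ : H[x] → ℂ) w) * conj (centralChar (ψ : H[x] → ℂ) z⁻¹))]
      refine sum_congr rfl fun w _ => ?_
      rw [mul_assoc, ← map_mul, mul_comm ((ψ : H[x] → ℂ) _), ← irr_central_mul ψ hz]
      simp [secFun, z]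
    have hcc : centralChar (ψ : H[x] → ℂ) z⁻¹ ^ orderOf z⁻¹ = 1 := by
      have hne : ∀ l : ℕ, (ψ : H[x] → ℂ) (z⁻¹ ^ l) =
          centralChar (ψ : H[x] → ℂ) z⁻¹ ^ l * (ψ : H[x] → ℂ) 1 := fun l => by
        induction l with
        | zero => simp
        | succ l ih => rw [pow_succ', irr_central_mul ψ hz, ih, pow_succ', mul_assoc]
      have h1 := hne (orderOf z⁻¹)
      rw [pow_orderOf_eq_one] at h1
      exact mul_right_cancel₀ (irr_one_ne_zero ψ) (h1.symm.trans (one_mul _).symm)
    have hroot : conj (centralChar (ψ : H[x] → ℂ) z⁻¹) ^ Nat.card G = 1 := by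
      rw [← map_pow, orderOf_dvd_iff_pow_eq_one.1 ((orderOf_dvd_of_pow_eq_one hcc).trans
        ((orderOf_dvd_natCard _).trans (Subgroup.card_subgroup_dvd_card H[x]))), map_one]
    rw [h]
    exact ⟨mul_mem (natCast_mem _ n) (root_mem_cycloField hroot),
      (isIntegral_natCast_complex n).mul (IsIntegral.of_pow Nat.card_pos
        (by rw [hroot]; exact isIntegral_one))⟩
  have haK : ∀ χ i, a χ i ∈ cycloField (Nat.card G) := fun χ i =>
    sum_mem fun ψ _ => mul_mem (hcoord χ ψ.1).1 (intCast_mem _ _)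
  have haI : ∀ χ i, IsIntegral ℤ (a χ i) := fun χ i =>
    IsIntegral.sum _ fun ψ _ => (hcoord χ ψ.1).2.mul (isIntegral_algebraMap (x := c ψ i))
  -- the characters of degree prime to `p` are seen
  have hnz : ∀ χ ∈ principalBlock M G, ¬ p ∣ charDegree (χ : G → ℂ) → ∃ i, a χ i ≠ 0 := by
    intro χ hχ hdeg
    by_contra hall
    simp only [not_exists, not_not] at hall
    have h1 := subPart_principal hM hx hχ
    rw [hsub χ] at h1
    simp [hall] at h1
    have h2 := char_cong_pPart hM (isCharacter_irr χ) (Commute.one_right x) (n := k)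
      (by rw [← hx]; exact pow_orderOf_eq_one x) (m := 1) hp.not_dvd_one (one_pow 1)
    rw [mul_one, ← h1, zero_sub, (irr_one χ).1] at h2
    exact hdeg ((memLocalIdeal_natCast_iff hM).1 (by simpa using memLocalIdeal_neg h2))
  -- the total
  have htot : ∑ χ ∈ univ.filter (· ∈ principalBlock M G),
      (2 * ∑ i, a χ i * conj (a χ i) +
        m * ∑ i, ∑ j, (a χ i - a χ j) * conj (a χ i - a χ j)) = ((D * e * 2 : ℕ) : ℂ) := by
    simp only [← form, ← hsub]
    rw [← sum_mul, ← mul_sum]
    show (D : ℂ) * (∑ χ ∈ _, contrib p (principalBlock M H[x]) x χ χ) * 2 = _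
    rw [sum_contrib_diag hM rfl hx hind, hrank]
    push_cast; rfl
  -- the nonzero terms
  set v : IrrCharacter G × ((Fin 2 × ι) ⊕ (Fin m × ι × ι)) → ℂ := fun z =>
    Sum.elim (fun u => a z.1 u.2) (fun u => a z.1 u.2.1 - a z.1 u.2.2) z.2
  set S := ((univ.filter (· ∈ principalBlock M G)) ×ˢ
    (univ : Finset ((Fin 2 × ι) ⊕ (Fin m × ι × ι)))).filter fun z => v z ≠ 0
  have hgb := card_le_sum_normSq (N := Nat.card G) Nat.card_pos S v
    (fun z _ => by
      rcases z with ⟨χ, u | u⟩
      · exact haK _ _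
      · exact sub_mem (haK _ _) (haK _ _))
    (fun z _ => by
      rcases z with ⟨χ, u | u⟩
      · exact haI _ _
      · exact (haI _ _).sub (haI _ _))
    (fun z hz => (mem_filter.1 hz).2) ((D * e * 2 : ℕ) : ℚ) (by
      simp only [S]
      rw [sum_filter_of_ne (p := fun z => v z ≠ 0) (fun z _ h hz => h (by rw [hz, zero_mul])), sum_product]
      refine Eq.trans ?_ (htot.trans (Rat.cast_natCast _).symm)
      refine sum_congr rfl fun χ _ => ?_
      simp only [v, Fintype.sum_sum_type, Fintype.sum_prod_type, Sum.elim_inl, Sum.elim_inr,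
        sum_const, card_univ, Fintype.card_fin, nsmul_eq_mul, Nat.cast_ofNat])
  have hS : S.card ≤ D * e * 2 := by exact_mod_cast hgb
  set T := univ.filter fun χ : IrrCharacter G =>
    χ ∈ principalBlock M G ∧ ¬ p ∣ charDegree (χ : G → ℂ)
  have hlow : T.card * (2 * e) ≤ S.card := by
    rw [← smul_eq_mul, ← sum_const]
    refine le_trans (sum_le_sum fun χ hχ => le_card_nonzero
      (hnz χ (mem_filter.1 hχ).2.1 (mem_filter.1 hχ).2.2) hm) ?_
    rw [← card_sigma]
    refine card_le_card_of_injOn (fun z => (z.1, z.2)) (fun z hz => ?_) ?_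
    · obtain ⟨h1, h2⟩ := mem_sigma.1 hz
      exact mem_coe.2 (mem_filter.2 ⟨mem_product.2 ⟨mem_filter.2 ⟨mem_univ _,
        (mem_filter.1 h1).2.1⟩, mem_univ _⟩, (mem_filter.1 h2).2⟩)
    · rintro ⟨a1, b1⟩ - ⟨a2, b2⟩ - h
      simp only [Prod.mk.injEq] at h
      obtain ⟨rfl, rfl⟩ := h
      rfl
  have hfin : T.card ≤ D := by
    refine Nat.le_of_mul_le_mul_right ?_ (show 0 < 2 * e by omega)
    calc T.card * (2 * e) ≤ D * e * 2 := hlow.trans hS
      _ = D * (2 * e) := by ring
  rw [Nat.card_eq_fintype_card, Fintype.card_subtype]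
  exact hfin.trans hD

end CfsgLib.SmallCentralizer
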