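import Cfsg.Agent.BlocksB.SmallCentralizer.Core
import Cfsg.Agent.BlocksB.SmallCentralizer.Block
import Mathlib.GroupTheory.Transfer
import Mathlib.GroupTheory.FiniteAbelian.Duality
import Mathlib.NumberTheory.Basic
import Mathlib.GroupTheory.PGroup

/-!
# At most `p ^ 2` characters of degree prime to `p` in the principal block

This holds as soon as some `p`-element has a centralizer with Sylow subgroups of order at most
`p ^ 2`.
-/

set_option autoImplicit false
set_option linter.style.haveILetI false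
set_option linter.unusedSectionVars false

namespace CfsgLib.SmallCentralizer

open Cfsg Finset CfsgLib.Block CfsgLib.Block.Chr CfsgLib.Char
open scoped Classical

universe u

variable {M : Ideal AlgInt} [M.IsPrime] {p : ℕ} [Fact p.Prime] [CharP (Residue M) p]
  {H : Type u} [Group H] [Fintype H]

/-- An exponent congruent to one modulo the order of a fixed element is congruent to one. -/
theorem normalizer_le_centralizer (P : Sylow p H) (ha : (Nat.card H).factorization p ≤ 2)
    (hcyc : IsCyclic (P : Subgroup H)) {z : H} (hz : z ∈ Subgroup.center H)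
    (hzP : z ∈ (P : Subgroup H)) (hz1 : z ≠ 1 ∨ Nat.card (P : Subgroup H) = 1) :
    Subgroup.normalizer ((P : Subgroup H) : Set H) ≤
      Subgroup.centralizer ((P : Subgroup H) : Set H) := by
  have hp : p.Prime := Fact.out
  set a := (Nat.card H).factorization p
  have hcard : Nat.card (P : Subgroup H) = p ^ a := P.card_eq_multiplicity
  rcases hz1 with hz1 | hone
  swap
  · intro g _
    rw [Subgroup.mem_centralizer_iff]
    intro y hy
    rw [show (P : Subgroup H) = ⊥ from Subgroup.card_eq_one.1 hone] at hy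
    rw [Subgroup.mem_bot.1 hy, one_mul, mul_one]
  obtain ⟨⟨u, hu⟩, hgen⟩ := IsCyclic.exists_generator (α := (P : Subgroup H))
  have hgen' : ∀ y ∈ (P : Subgroup H), ∃ i : ℕ, u ^ i = y := by
    intro y hy
    obtain ⟨i, hi⟩ := (isOfFinOrder_of_finite _).mem_powers_iff_mem_zpowers.2 (hgen ⟨y, hy⟩)
    exact ⟨i, congrArg Subtype.val hi⟩
  have hord : orderOf u = p ^ a := by
    rw [← hcard, ← orderOf_eq_card_of_forall_mem_zpowers hgen, ← Subgroup.orderOf_coe]
  intro g hg
  rw [Subgroup.mem_centralizer_iff]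
  intro y hy
  obtain ⟨i, rfl⟩ := hgen' y hy
  suffices hc : Commute u g from (hc.pow_left i).eq
  obtain ⟨j, hj⟩ := hgen' (g * u * g⁻¹) ((Subgroup.mem_normalizer_iff.1 hg u).1 hu)
  have hpow : ∀ (n : ℕ), g ^ n * u * (g ^ n)⁻¹ = u ^ j ^ n := by
    intro n
    induction n with
    | zero => simp
    | succ n ih =>
      calc g ^ (n + 1) * u * (g ^ (n + 1))⁻¹ = g * (g ^ n * u * (g ^ n)⁻¹) * g⁻¹ := by
            rw [pow_succ']; group
        _ = (g * u * g⁻¹) ^ j ^ n := by rw [ih, conj_pow]
        _ = u ^ j ^ (n + 1) := by rw [← hj, ← pow_mul, pow_succ']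
  -- the exponent is one modulo `p`
  have hjp : (p : ℤ) ∣ (j : ℤ) - 1 := by
    obtain ⟨i, hi⟩ := hgen' z hzP
    have h1 : u ^ (j * i) = u ^ i := by
      rw [pow_mul, hj, conj_pow, hi, Subgroup.mem_center_iff.1 hz g, mul_inv_cancel_right]
    have h2 : ((p ^ a : ℕ) : ℤ) ∣ ((i : ℕ) : ℤ) - ((j * i : ℕ) : ℤ) := by
      rw [← Nat.modEq_iff_dvd, ← hord]
      exact pow_eq_pow_iff_modEq.1 h1
    by_contra hnd
    have hcop : IsCoprime ((p : ℤ) ^ a) (1 - (j : ℤ)) := IsCoprime.pow_left
      ((Nat.prime_iff_prime_int.1 hp).coprime_iff_not_dvd.2 fun h => hnd (by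
        rw [← neg_sub]; exact h.neg_right))
    have h3 : ((p : ℤ) ^ a) ∣ (i : ℤ) := by
      refine hcop.dvd_of_dvd_mul_left ?_
      push_cast at h2
      rw [show (1 - (j : ℤ)) * i = (i : ℤ) - (j : ℤ) * i by ring]
      exact h2
    refine hz1 ?_
    rw [← hi, ← orderOf_dvd_iff_pow_eq_one, hord]
    exact_mod_cast h3
  have hp' : j ^ p ≡ 1 [MOD p ^ a] := by
    have h := dvd_sub_pow_of_dvd_sub (R := ℤ) (a := (j : ℤ)) (b := 1) hjp 1
    rw [pow_one, one_pow, show (1 + 1 : ℕ) = 2 from rfl] at h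
    refine (Nat.modEq_iff_dvd.2 ?_).symm
    push_cast
    exact (pow_dvd_pow _ ha).trans h
  haveI : ((P : Subgroup H).subgroupOf (Subgroup.normalizer ((P : Subgroup H) : Set H))).Normal :=
    (Subgroup.normal_subgroupOf_iff_le_normalizer Subgroup.le_normalizer).2 le_rfl
  set t := ((P : Subgroup H).subgroupOf (Subgroup.normalizer ((P : Subgroup H) : Set H))).index
  have ht : ¬ p ∣ t := (P.subtype Subgroup.le_normalizer).not_dvd_index
  have hgt : g ^ t ∈ (P : Subgroup H) :=
    Subgroup.mem_subgroupOf.1 (Subgroup.pow_index_mem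
      ((P : Subgroup H).subgroupOf (Subgroup.normalizer ((P : Subgroup H) : Set H))) ⟨g, hg⟩)
  obtain ⟨l, hl⟩ := hgen' _ hgt
  have ht' : j ^ t ≡ 1 [MOD p ^ a] := by
    rw [← hord]
    refine pow_eq_pow_iff_modEq.1 ?_
    rw [← hpow, pow_one, ← hl, (Commute.pow_self u l).eq, mul_inv_cancel_right]
  have hj1 : ((j : ℕ) : ZMod (p ^ a)) = 1 := by
    have e1 : ((j : ℕ) : ZMod (p ^ a)) ^ t = 1 := by
      rw [← Nat.cast_pow, ← Nat.cast_one (R := ZMod (p ^ a))]
      exact (ZMod.natCast_eq_natCast_iff _ _ _).2 ht'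
    have e2 : ((j : ℕ) : ZMod (p ^ a)) ^ p = 1 := by
      rw [← Nat.cast_pow, ← Nat.cast_one (R := ZMod (p ^ a))]
      exact (ZMod.natCast_eq_natCast_iff _ _ _).2 hp'
    have := pow_gcd_eq_one.2 ⟨e2, e1⟩
    rwa [(hp.coprime_iff_not_dvd.2 ht).gcd_eq_one, pow_one] at this
  have hu1 : g * u * g⁻¹ = u := by
    rw [← hj]
    conv_rhs => rw [← pow_one u]
    refine pow_eq_pow_iff_modEq.2 ?_
    rw [hord]
    exact (ZMod.natCast_eq_natCast_iff _ _ _).1 (by rw [hj1, Nat.cast_one])
  exact (mul_inv_eq_iff_eq_mul.1 hu1).symm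

/-- **The basis at a central `p`-element.** -/
theorem hasBasis_of_central (hM : IsPModular p M) (ha : (Nat.card H).factorization p ≤ 2) {z : H}
    (hz : z ∈ Subgroup.center H) {k : ℕ} (hzk : orderOf z = p ^ k)
    (hz1 : z ≠ 1 ∨ ¬ p ∣ Nat.card H) : ∃ D, 0 < D ∧ D ≤ p ^ 2 ∧ HasBasis M p D H := by
  have hp : p.Prime := Fact.out
  obtain ⟨P⟩ : Nonempty (Sylow p H) := inferInstance
  set a := (Nat.card H).factorization p
  have hcard : Nat.card (P : Subgroup H) = p ^ a := P.card_eq_multiplicity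
  have hzP : z ∈ (P : Subgroup H) := by
    haveI : (Subgroup.zpowers z).Normal := ⟨fun n hn g => by
      rw [Subgroup.mem_center_iff.1 (Subgroup.zpowers_le.2 hz hn) g, mul_inv_cancel_right]
      exact hn⟩
    obtain ⟨Q, hQ⟩ := (IsPGroup.of_card (G := Subgroup.zpowers z) (n := k)
      (by rw [Nat.card_zpowers, hzk])).exists_le_sylow
    obtain ⟨g, hg⟩ := MulAction.exists_smul_eq H Q P
    rw [← hg]
    exact ⟨z, hQ (Subgroup.mem_zpowers z), by
      show g * z * g⁻¹ = z
      rw [Subgroup.mem_center_iff.1 hz g, mul_inv_cancel_right]⟩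
  by_cases hcyc : IsCyclic (P : Subgroup H)
  · have hz1' : z ≠ 1 ∨ Nat.card (P : Subgroup H) = 1 := hz1.imp id fun h => by
      rw [hcard, show a = 0 from Nat.factorization_eq_zero_of_not_dvd h, pow_zero]
    have hNC := normalizer_le_centralizer P ha hcyc hz hzP hz1'
    set N := (MonoidHom.transferSylow P hNC).ker
    have hidx : N.index = p ^ a := by
      rw [(MonoidHom.ker_transferSylow_isComplement' P hNC).symm.index_eq_card, hcard]
    refine ⟨N.index, Nat.pos_of_ne_zero Subgroup.index_ne_zero_of_finite, ?_,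
      hasBasis_complement hM (MonoidHom.not_dvd_card_ker_transferSylow P hNC) ⟨a, hidx⟩⟩
    rw [hidx]
    exact Nat.pow_le_pow_right hp.pos ha
  · have ha2 : a = 2 := by
      rcases Nat.lt_or_ge a 2 with h | h
      · rcases (show a = 0 ∨ a = 1 by omega) with e | e
        · rw [e, pow_zero] at hcard
          haveI := (Nat.card_eq_one_iff_unique.1 hcard).1
          exact absurd isCyclic_of_subsingleton hcyc
        · rw [e, pow_one] at hcard
          exact absurd (isCyclic_of_prime_card hcard) hcyc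
      · omega
    rw [ha2] at hcard
    have hexp : ∀ y : (P : Subgroup H), y ^ p = 1 := by
      intro y
      have h : orderOf y ∣ p ^ 2 := hcard ▸ orderOf_dvd_natCard y
      obtain ⟨i, hi, he⟩ := (Nat.dvd_prime_pow hp).1 h
      have hi2 : i ≠ 2 := fun e => hcyc (isCyclic_of_orderOf_eq_card y (by rw [he, e, hcard]))
      rw [← orderOf_dvd_iff_pow_eq_one, he]
      exact (pow_dvd_pow p (show i ≤ 1 by omega)).trans (pow_one p).dvd
    have hz1' : z ≠ 1 := hz1.resolve_right fun h => h (dvd_trans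
      (hcard ▸ dvd_pow_self p two_ne_zero) (Subgroup.card_subgroup_dvd_card _))
    letI : CommGroup (P : Subgroup H) :=
      { (inferInstance : Group (P : Subgroup H)) with
        mul_comm := IsPGroup.commutative_of_card_eq_prime_sq hcard }
    haveI : NeZero (Monoid.exponent (P : Subgroup H) : ℂ) :=
      ⟨Nat.cast_ne_zero.2 Monoid.exponent_ne_zero_of_finite⟩
    obtain ⟨lam, hlam⟩ := CommGroup.exists_apply_ne_one_of_hasEnoughRootsOfUnity
      (G := (P : Subgroup H)) (M := ℂ) (a := ⟨z, hzP⟩) fun h => hz1' (congrArg Subtype.val h)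
    set τ : H →* ℂˣ := MonoidHom.transfer lam with hτ
    have hτz : τ z = lam ⟨z, hzP⟩ ^ (P : Subgroup H).index := by
      rw [hτ, MonoidHom.transfer_eq_pow lam z fun i g₀ hi => by
        rw [mul_assoc, ← Subgroup.mem_center_iff.1 (pow_mem hz i) g₀, ← mul_assoc,
          inv_mul_cancel, one_mul], ← map_pow]
      rfl
    have hlp : lam ⟨z, hzP⟩ ^ p = 1 := by rw [← map_pow, hexp, map_one]
    have hτ1 : τ z ≠ 1 := fun h => hlam (by
      rw [hτz] at h
      have := pow_gcd_eq_one.2 ⟨hlp, h⟩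
      rwa [(hp.coprime_iff_not_dvd.2 P.not_dvd_index).gcd_eq_one, pow_one] at this)
    set K := τ.ker
    haveI := Fintype.ofFinite K
    have hsub : ∀ g, τ g ^ p = 1 := fun g => by
      rw [← map_pow, hτ]
      have h1 : τ g ∈ Subgroup.closure (Set.range lam) := by
        rw [hτ, MonoidHom.transfer_def lam default, Subgroup.leftTransversals.diff]
        exact Subgroup.prod_mem _ fun i _ => Subgroup.subset_closure ⟨_, rfl⟩
      have h2 : Subgroup.closure (Set.range lam) ≤ (powMonoidHom p : ℂˣ →* ℂˣ).ker := by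
        rw [Subgroup.closure_le]
        rintro _ ⟨y, rfl⟩
        show lam y ^ p = 1
        rw [← map_pow, hexp, map_one]
      have h3 : τ g ^ p = 1 := h2 h1
      rwa [← map_pow] at h3
    have hτp : orderOf (τ z) = p := orderOf_eq_prime (hsub z) hτ1
    have hmemz : ∀ g, τ g ∈ Subgroup.zpowers (τ z) := fun g => by
      haveI : NeZero (orderOf (τ z)) := ⟨hτp.symm ▸ hp.ne_zero⟩
      obtain ⟨i, -, hi⟩ := (IsPrimitiveRoot.coe_units_iff.2
        (IsPrimitiveRoot.orderOf (τ z))).eq_pow_of_pow_eq_one (ξ := ((τ g : ℂˣ) : ℂ)) (by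
          rw [hτp, ← Units.val_pow_eq_pow_val, hsub, Units.val_one])
      exact ⟨i, Units.ext (by rw [← hi]; simp)⟩
    have hKidx : K.index = p := by
      rw [Subgroup.index_ker]
      have hle : τ.range ≤ Subgroup.zpowers (τ z) := by
        rintro _ ⟨g, rfl⟩
        exact hmemz g
      have hge : Subgroup.zpowers (τ z) ≤ τ.range := Subgroup.zpowers_le.2 ⟨z, rfl⟩
      rw [le_antisymm hle hge, Nat.card_zpowers, hτp]
    have hreg : ∀ h : H, ¬ p ∣ orderOf h → h ∈ K := by
      intro h hh
      have h1 : orderOf (τ h) ∣ p := orderOf_dvd_of_pow_eq_one (hsub h)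
      exact orderOf_eq_one_iff.1 (Nat.eq_one_of_dvd_coprimes
        (Nat.Coprime.symm (hp.coprime_iff_not_dvd.2 hh)) (orderOf_map_dvd τ h) h1)
    have htop : K ⊔ Subgroup.zpowers z = ⊤ := by
      refine eq_top_iff.2 fun g _ => ?_
      have hg : τ g ∈ Subgroup.zpowers (τ z) := by
        exact hmemz g
      obtain ⟨i, hi⟩ := hg
      rw [← inv_mul_cancel_right g (z ^ i)]
      refine mul_mem (Subgroup.mem_sup_left ?_) (Subgroup.mem_sup_right ⟨i, rfl⟩)
      rw [MonoidHom.mem_ker, map_mul, map_inv, map_zpow]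
      exact mul_inv_eq_one.2 hi.symm
    have hNK : (Nat.card K).factorization p = 1 := by
      have h := congrArg (fun n : ℕ => n.factorization p) (K.index_mul_card)
      simp only [hKidx, Nat.factorization_mul hp.ne_zero Nat.card_pos.ne', Finsupp.add_apply,
        hp.factorization_self] at h
      omega
    refine ⟨K.index * p, Nat.mul_pos (hKidx ▸ hp.pos) hp.pos, by rw [hKidx, pow_two],
      hasBasis_lift hM hz htop hreg (hasBasis_prime hM hNK)⟩

/-- **At most `p ^ 2` characters of degree prime to `p` in the principal block.** -/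
theorem card_le {G : Type u} [Group G] [Fintype G] (hM : IsPModular p M) {x : G} {k : ℕ}
    (hx : orderOf x = p ^ k)
    (hC : (Nat.card (Subgroup.centralizer ({x} : Set G))).factorization p ≤ 2) :
    Nat.card {χ : IrrCharacter G //
      χ ∈ principalBlock M G ∧ ¬ p ∣ charDegree (χ : G → ℂ)} ≤ p ^ 2 := by
  have hp : p.Prime := Fact.out
  -- the element may be taken nontrivial
  obtain ⟨y, l, hy, hCy, hy1⟩ : ∃ (y : G) (l : ℕ), orderOf y = p ^ l ∧
      (Nat.card (Subgroup.centralizer ({y} : Set G))).factorization p ≤ 2 ∧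
      (y ≠ 1 ∨ ¬ p ∣ Nat.card G) := by
    by_cases h : x ≠ 1 ∨ ¬ p ∣ Nat.card G
    · exact ⟨x, k, hx, hC, h⟩
    · rw [not_or, not_not, not_not] at h
      obtain ⟨y, hy⟩ := exists_prime_orderOf_dvd_card' p h.2
      refine ⟨y, 1, by rw [hy, pow_one], le_trans ?_ hC, Or.inl fun e => ?_⟩
      · refine (Nat.factorization_le_iff_dvd Nat.card_pos.ne' Nat.card_pos.ne').2 ?_ p
        rw [h.1, show Subgroup.centralizer ({(1 : G)} : Set G) = ⊤ from eq_top_iff.2 fun g _ =>
          Subgroup.mem_centralizer_singleton_iff.2 (by simp), Subgroup.card_top]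
        exact Subgroup.card_subgroup_dvd_card _
      · rw [e, orderOf_one] at hy
        exact hp.one_lt.ne hy
  haveI : Fintype (Subgroup.centralizer ({y} : Set G)) := Fintype.ofFinite _
  set z : Subgroup.centralizer ({y} : Set G) :=
    ⟨y, Subgroup.mem_centralizer_singleton_iff.2 rfl⟩
  obtain ⟨D, hD0, hD, ι, i1, i2, m, f, hm, hf, hc, hgram⟩ := hasBasis_of_central (H :=
    Subgroup.centralizer ({y} : Set G)) hM hCy (z := z)
    (Subgroup.mem_center_iff.2 fun w => Subtype.ext (Subgroup.mem_centralizer_singleton_iff.1 w.2))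
    (k := l) (by rw [← Subgroup.orderOf_coe]; exact hy)
    (hy1.imp (fun h e => h (congrArg Subtype.val e))
      (fun h e => h (e.trans (Subgroup.card_subgroup_dvd_card _))))
  exact count_le hM hy m D hD0 hD hm f hf hc hgram

end CfsgLib.SmallCentralizer
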